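import Cfsg.Agent.MaxSub.SubfieldMaximal
import Cfsg.Agent.DicksonPSL2.Transvections

/-!
# Subfield subgroups are maximal in `SL_n`, `n ≥ 4`

If `g` lies in an overgroup `M` other than `SL`, each conjugate `t = g (1 + E_ij) g⁻¹` is rational up to
a scalar. Indeed, if the centre of `t` lies in a rational hyperplane, `t` stabilises it. Otherwise
the coordinates of the centre are independent over the subfield, so `r ≥ n`; then in odd characteristic
`t` and a rational transvection generate an irrational root element by Dickson's lemma, and in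
characteristic 2 the dihedral group of `t` and a rational involution gives a rational element
centralised by `t`.
-/

set_option autoImplicit false
set_option linter.unusedSectionVars false

namespace CfsgLib.SubfieldMax

open Matrix Cfsg.Geo CfsgLib.MaxSub
open scoped MatrixGroups

variable {ι : Type} [Fintype ι] [DecidableEq ι] {F : Type*} [Field F]

/-- Multiplicity of a conjugate eigenvalue. -/
theorem ratMat_of_fix [Fintype F] {F₀ : Subfield F} {r : ℕ} (hr : r.Prime)
    (hcard : Fintype.card F = Nat.card F₀ ^ r) {g : GL ι F}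
    (hg : g ∈ subfieldSubgroup F₀ (1 : GL ι F))
    (hbig : Fintype.card ι < r * Module.finrank F (fixSp (g : Matrix ι ι F))) :
    RatMat F₀ (g : Matrix ι ι F) := by
  classical
  obtain ⟨c, hc, hB⟩ := mem_subfieldSubgroup_one_iff.1 hg
  by_cases hcF : c ∈ F₀
  · intro i j
    have h1 := F₀.mul_mem (F₀.inv_mem hcF) (hB i j)
    rwa [Matrix.smul_apply, smul_eq_mul, inv_mul_cancel_left₀ hc] at h1
  exfalso
  have : Fintype F₀ := Fintype.ofFinite _
  have hfin : Module.finrank F₀ F = r := by
    have h := Module.card_eq_pow_finrank (K := F₀) (V := F)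
    rw [hcard, Nat.card_eq_fintype_card] at h
    exact (Nat.pow_right_injective (Fintype.one_lt_card) h).symm
  -- the conjugates of `c` are distinct
  have hinj : Function.Injective (fun σ : F ≃ₐ[F₀] F => σ c) := by
    intro σ τ h
    let R : Subring F :=
      { carrier := {x | σ x = τ x}
        mul_mem' := fun {x y} hx hy => by
          simp only [Set.mem_ofPred_eq] at *; rw [map_mul, map_mul, hx, hy]
        one_mem' := by simp
        add_mem' := fun {x y} hx hy => by
          simp only [Set.mem_ofPred_eq] at *; rw [map_add, map_add, hx, hy]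
        zero_mem' := by simp
        neg_mem' := fun {x} hx => by simp only [Set.mem_ofPred_eq] at *; rw [map_neg, map_neg, hx] }
    have hall := subring_eq_top_of_prime hr hcard R
      (fun x hx => (σ.commutes ⟨x, hx⟩).trans (τ.commutes ⟨x, hx⟩).symm) (c := c) h hcF
    exact AlgEquiv.ext hall
  have hcardG : Fintype.card (F ≃ₐ[F₀] F) = r := by
    rw [← hfin, ← Nat.card_eq_fintype_card]
    exact IsGalois.card_aut_eq_finrank F₀ F
  set B : Matrix ι ι F := c • (g : Matrix ι ι F) with hBdef
  set T : Module.End F (ι → F) := toLin' B with hT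
  set W := fixSp (g : Matrix ι ι F) with hW
  have hle : ∀ σ : F ≃ₐ[F₀] F, Module.finrank F W ≤ Module.finrank F (T.eigenspace (σ c)) := by
    intro σ
    let w := Module.finBasis F W
    have hmem : ∀ a, (fun i => σ ((w a : ι → F) i)) ∈ T.eigenspace (σ c) := by
      intro a
      rw [Module.End.mem_eigenspace_iff, hT, toLin'_apply]
      have h0 : B *ᵥ (w a : ι → F) = c • (w a : ι → F) := by
        rw [hBdef, smul_mulVec, mem_fixSp.1 (w a).2]
      funext i
      have h1 := congrArg σ (congrFun h0 i)
      simp only [mulVec, dotProduct, map_sum, map_mul, Pi.smul_apply, smul_eq_mul] at h1 ⊢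
      rw [← h1]
      refine Finset.sum_congr rfl fun m _ => ?_
      congr 1
      exact (σ.commutes ⟨B i m, hB i m⟩).symm
    have hli : LinearIndependent F fun a => (⟨_, hmem a⟩ : T.eigenspace (σ c)) := by
      rw [Fintype.linearIndependent_iff]
      intro z hz a
      have h2 : ∑ a, σ.symm (z a) • (w a : ι → F) = 0 := by
        funext i
        apply σ.injective
        have h3 := congrArg (fun y : T.eigenspace (σ c) => (y : ι → F) i) hz
        simpa [Finset.sum_apply, map_sum, map_mul] using h3
      have h4 := Fintype.linearIndependent_iff.1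
        (w.linearIndependent.map' W.subtype W.ker_subtype) (fun a => σ.symm (z a)) h2 a
      simpa using h4
    have h1 := hli.fintype_card_le_finrank
    rwa [Fintype.card_fin] at h1
  have hind := (T.eigenspaces_iSupIndep).comp hinj
  let f := DFinsupp.lsum ℕ (M := fun σ : F ≃ₐ[F₀] F => ↥(T.eigenspace (σ c)))
    fun σ => (T.eigenspace (σ c)).subtype
  have hf : Function.Injective f := hind.dfinsupp_lsum_injective
  let e : (Π₀ σ : F ≃ₐ[F₀] F, T.eigenspace (σ c)) ≃ₗ[F] (Π σ : F ≃ₐ[F₀] F, T.eigenspace (σ c)) :=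
    DFinsupp.linearEquivFunOnFintype
  have h2 := LinearMap.finrank_le_finrank_of_injective (f := f.comp e.symm.toLinearMap)
    (hf.comp e.symm.injective)
  rw [Module.finrank_pi_fintype, Module.finrank_fintype_fun_eq_card] at h2
  have h3 := Finset.sum_le_sum (s := (Finset.univ : Finset (F ≃ₐ[F₀] F))) (fun σ _ => hle σ)
  rw [Finset.sum_const, Finset.card_univ, hcardG, smul_eq_mul] at h3
  omega

/-- `1 + U (A - 1) U'` as a homomorphism `SL(2, F) → GL`, for `U' U = 1`. -/
def embedTwo (U : Matrix ι (Fin 2) F) (U' : Matrix (Fin 2) ι F) (h : U' * U = 1) :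
    SL(2, F) →* GL ι F :=
  MonoidHom.toHomUnits
    { toFun := fun A => 1 + U * ((A : Matrix (Fin 2) (Fin 2) F) - 1) * U'
      map_one' := by simp
      map_mul' := fun A B => by
        have e : ((A * B : SL(2, F)) : Matrix (Fin 2) (Fin 2) F) - 1
            = ((A : Matrix (Fin 2) (Fin 2) F) - 1) + ((B : Matrix (Fin 2) (Fin 2) F) - 1)
              + ((A : Matrix (Fin 2) (Fin 2) F) - 1) * ((B : Matrix (Fin 2) (Fin 2) F) - 1) := by
          rw [Matrix.SpecialLinearGroup.coe_mul]
          noncomm_ring
        have e2 : U * ((A : Matrix (Fin 2) (Fin 2) F) - 1) * U' * (U * ((B : Matrix (Fin 2) (Fin 2) F) - 1) * U')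
            = U * (((A : Matrix (Fin 2) (Fin 2) F) - 1) * ((B : Matrix (Fin 2) (Fin 2) F) - 1)) * U' := by
          simp only [Matrix.mul_assoc]
          rw [← Matrix.mul_assoc U' U, h, Matrix.one_mul]
        rw [e, mul_add, mul_one, add_mul, one_mul, e2]
        simp only [Matrix.mul_add, Matrix.add_mul]
        abel }

theorem embedTwo_val (U : Matrix ι (Fin 2) F) (U' : Matrix (Fin 2) ι F) (h : U' * U = 1) (A : SL(2, F)) :
    (embedTwo U U' h A : Matrix ι ι F) = 1 + U * ((A : Matrix (Fin 2) (Fin 2) F) - 1) * U' := rfl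

variable [Fintype F]

/-- An irrational transvection with coordinates `φ a * v b ∉ F₀` generates, together with the rational
root element, an irrational root element (odd characteristic). -/
theorem exists_el_irrational {F₀ : Subfield F} {r : ℕ} (hr : r.Prime) (hr2 : r ≠ 2)
    (hcard : Fintype.card F = Nat.card F₀ ^ r) (h2 : (2 : F) ≠ 0) {v φ : ι → F} (hφv : φ ⬝ᵥ v = 0)
    {a b : ι} (hab : a ≠ b) (hlam : φ a * v b ∉ F₀) {M : Subgroup (GL ι F)} (ht : tv v φ ∈ M)
    (he : el a b (1 : F) ∈ M) :
    el a b (φ a * v b)⁻¹ ∈ M := by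
  classical
  set lam := φ a * v b with hlam'
  have hlam0 : lam ≠ 0 := fun h => hlam (h ▸ F₀.zero_mem)
  have hφa : φ a ≠ 0 := left_ne_zero_of_mul hlam0
  have hvb : v b ≠ 0 := right_ne_zero_of_mul hlam0
  let U : Matrix ι (Fin 2) F := Matrix.of fun i k => ![(Pi.single a (1 : F) : ι → F) i, φ a * v i] k
  let U' : Matrix (Fin 2) ι F := Matrix.of ![(φ a)⁻¹ • φ, lam⁻¹ • (Pi.single b (1 : F) : ι → F)]
  have hU : U' * U = 1 := by
    ext k l
    fin_cases k <;> fin_cases l <;> simp [U, U', mul_apply, Pi.single_apply, Finset.sum_ite_eq', hab, hφa]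
    · rw [show (∑ i, (φ a)⁻¹ * φ i * (φ a * v i)) = φ ⬝ᵥ v from
        Finset.sum_congr rfl fun i _ => by field_simp, hφv]
    · rw [← hlam', inv_mul_cancel₀ hlam0]
  set Φ := embedTwo U U' hU with hΦ
  have hup : ∀ μ : F, Φ (DicksonPSL2.upSL μ) = el a b (μ / lam) := by
    intro μ
    apply Units.ext
    rw [hΦ, embedTwo_val, el_coe hab, DicksonPSL2.coe_upSL]
    congr 1
    ext i j
    rcases eq_or_ne i a with rfl | hi <;> rcases eq_or_ne j b with rfl | hj <;>
      simp [U, U', mul_apply, Fin.sum_univ_two, single_apply, Pi.single_apply, *, Ne.symm, div_eq_mul_inv]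
  have hlo : Φ DicksonPSL2.loOne = tv v φ := by
    apply Units.ext
    rw [hΦ, embedTwo_val, tv_coe hφv, DicksonPSL2.coe_loOne]
    congr 1
    ext i j
    simp [U, U', mul_apply, Fin.sum_univ_two, vecMulVec_apply]
    field_simp
  -- work over the subfield generated by `lam`
  let F₁ : Subfield F := Subfield.closure {lam}
  let lam₁ : F₁ := ⟨lam, Subfield.subset_closure rfl⟩
  have hgen : Subfield.closure ({lam₁} : Set F₁) = ⊤ := by
    rw [eq_top_iff]
    rintro ⟨x, hx⟩ -
    have hle : F₁ ≤ (Subfield.closure ({lam₁} : Set F₁)).map F₁.subtype := by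
      rw [Subfield.closure_le, Set.singleton_subset_iff]
      exact ⟨lam₁, Subfield.subset_closure rfl, rfl⟩
    obtain ⟨y, hy, hyx⟩ := hle hx
    exact (Subtype.ext hyx : y = ⟨x, hx⟩) ▸ hy
  obtain ⟨p, hp⟩ := CharP.exists F₁
  have : Fact p.Prime := ⟨CharP.char_is_prime F₁ p⟩
  have : Fintype F₁ := Fintype.ofFinite _
  have h21 : (2 : F₁) ≠ 0 := fun h => h2 (congrArg Subtype.val h)
  have hnotnine : ¬ lam₁ ^ 2 = -1 := by
    intro h
    have hsq : lam ^ 2 = -1 := congrArg Subtype.val h
    have : Fintype F₀ := Fintype.ofFinite _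
    have hF : IsSquare (-1 : F) := ⟨lam, by rw [← hsq, pow_two]⟩
    rw [FiniteField.isSquare_neg_one_iff, hcard, Nat.card_eq_fintype_card] at hF
    have hF0 : IsSquare (-1 : F₀) := by
      rw [FiniteField.isSquare_neg_one_iff]
      intro h3
      apply hF
      obtain ⟨k, hk⟩ := hr.odd_of_ne_two hr2
      rw [hk, pow_succ, pow_mul, Nat.mul_mod, Nat.pow_mod, Nat.pow_mod (Fintype.card F₀) 2, h3]
      norm_num
    obtain ⟨μ, hμ⟩ := hF0
    have hμ' : (μ : F) * μ = -1 := (congrArg Subtype.val hμ).symm
    have : (lam - μ) * (lam + μ) = 0 := by linear_combination hsq - hμ'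
    rcases mul_eq_zero.mp this with h' | h'
    · exact hlam (by rw [sub_eq_zero.mp h']; exact μ.2)
    · exact hlam (by rw [eq_neg_of_add_eq_zero_left h']; exact F₀.neg_mem μ.2)
  rcases DicksonPSL2.transvections_generate p h21 (lam := lam₁) (fun h => hlam0 (congrArg Subtype.val h))
      hgen with ⟨htop, -⟩ | ⟨-, h, -⟩
  swap
  · exact absurd h hnotnine
  let Ψ := Φ.comp (Matrix.SpecialLinearGroup.map F₁.subtype)
  have hmapup : ∀ μ : F₁, Matrix.SpecialLinearGroup.map F₁.subtype (DicksonPSL2.upSL μ)
      = DicksonPSL2.upSL (μ : F) := by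
    intro μ
    ext i j
    rw [Matrix.SpecialLinearGroup.map_apply_coe, RingHom.mapMatrix_apply, Matrix.map_apply]
    fin_cases i <;> fin_cases j <;> simp [DicksonPSL2.upSL]
  have hmaplo : Matrix.SpecialLinearGroup.map F₁.subtype (DicksonPSL2.loOne (F := F₁))
      = DicksonPSL2.loOne := by
    ext i j
    rw [Matrix.SpecialLinearGroup.map_apply_coe, RingHom.mapMatrix_apply, Matrix.map_apply]
    fin_cases i <;> fin_cases j <;> simp [DicksonPSL2.loOne]
  have hall : ∀ A : SL(2, F₁), Ψ A ∈ M := by
    have hle : Subgroup.closure ({DicksonPSL2.loOne, DicksonPSL2.upSL lam₁} : Set SL(2, F₁))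
        ≤ M.comap Ψ := by
      rw [Subgroup.closure_le]
      rintro A (rfl | rfl)
      · show Φ _ ∈ M
        rw [hmaplo, hlo]; exact ht
      · show Φ _ ∈ M
        rw [hmapup, hup]
        show el a b (lam / lam) ∈ M
        rw [div_self hlam0]; exact he
    rw [htop] at hle
    exact fun A => hle (Subgroup.mem_top A)
  have := hall (DicksonPSL2.upSL 1)
  rw [MonoidHom.comp_apply, hmapup, hup] at this
  simpa using this

/-- Between the subfield group and `SL` there is nothing else. -/
theorem le_subfield_or_specialLinear_le {F₀ : Subfield F} {r : ℕ} (hr : r.Prime)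
    (hcard : Fintype.card F = Nat.card F₀ ^ r) (hn : 4 ≤ Fintype.card ι) {M : Subgroup (GL ι F)}
    (hM : subfieldSubgroup F₀ (1 : GL ι F) ⊓ specialLinear ι F ≤ M)
    (hMsl : M ≤ specialLinear ι F) :
    M ≤ subfieldSubgroup F₀ (1 : GL ι F) ∨ specialLinear ι F ≤ M := by
  classical
  by_cases hSL : specialLinear ι F ≤ M
  · exact Or.inr hSL
  refine Or.inl fun g hg => ?_
  have hel : ∀ i j : ι, i ≠ j → ∀ c ∈ F₀, el i j c ∈ M := fun i j hij c hc =>
    hM ⟨mem_subfieldSubgroup_one_of_rat (ratMat_el hij hc), el_mem_specialLinear _ _ _⟩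
  have hrad : ∀ S : Finset ι, ∀ u ∈ M, ∀ X : Matrix ι ι F, InRad S X →
      (u : Matrix ι ι F) = 1 + X → RatMat F₀ X := fun S u hu X hX huX =>
    Classical.byContradiction fun h =>
      hSL (specialLinear_le_of_irrational_rad hr hcard (by omega) hel hu hX huX h)
  -- stabilisers of rational subspaces
  have hstab : ∀ (A : Matrix ι ι F) (x : GL ι F), RatMat F₀ A → x ∈ M →
      (∃ v, v ≠ 0 ∧ A *ᵥ v = 0) → A ≠ 0 →
      (∀ v, A *ᵥ v = 0 → A *ᵥ ((x : Matrix ι ι F) *ᵥ v) = 0) →
      x ∈ subfieldSubgroup F₀ (1 : GL ι F) := by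
    intro A x hA hx hne hA0 hst
    obtain ⟨S, h, hh, hSne, hS⟩ := exists_ratSL_coord hA hne
    have hSu : S ≠ Finset.univ := by
      rintro rfl
      refine hA0 (Matrix.ext_of_mulVec_single fun i => ?_)
      have := (hS (((h⁻¹ : GL ι F) : Matrix ι ι F) *ᵥ Pi.single i 1)).2 fun i hi =>
        absurd (Finset.mem_univ i) hi
      rw [mulVec_mulVec (Pi.single i (1 : F)) (h : Matrix ι ι F), Units.mul_inv, one_mulVec] at this
      rw [this, zero_mulVec]
    have h1 := mem_subfield_of_stab_coord hM hMsl (hrad S) hSne hSu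
      (g := h⁻¹ * x * h) (M.mul_mem (M.mul_mem (M.inv_mem (hM hh.mem)) hx) (hM hh.mem))
      fun i j hi hj => by
        have h2 : (Pi.single j 1 : ι → F) ∈ coordSub S := fun k hk =>
          Pi.single_eq_of_ne (fun e : k = j => hk (e ▸ hj)) _
        have h3 := hst _ ((hS _).2 h2)
        have h4 : ((h⁻¹ * x * h : GL ι F) : Matrix ι ι F) *ᵥ Pi.single j 1 ∈ coordSub S := by
          have e : (h : Matrix ι ι F) *ᵥ (((h⁻¹ * x * h : GL ι F) : Matrix ι ι F) *ᵥ Pi.single j 1) =
              (x : Matrix ι ι F) *ᵥ ((h : Matrix ι ι F) *ᵥ Pi.single j 1) := by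
            rw [mulVec_mulVec (Pi.single j (1 : F)), mulVec_mulVec (Pi.single j (1 : F)),
              ← Units.val_mul, ← Units.val_mul, show h * (h⁻¹ * x * h) = x * h by group]
          rw [← hS, e]
          exact h3
        have h5 := h4 i hi
        rwa [mulVec_single_one] at h5
    have h6 := Subgroup.mul_mem _ (Subgroup.mul_mem _ hh.mem.1 h1)
      (Subgroup.inv_mem _ hh.mem.1)
    rwa [show h * (h⁻¹ * x * h) * h⁻¹ = x by group] at h6
  have hn' : Module.finrank F (ι → F) = Fintype.card ι := Module.finrank_fintype_fun_eq_card F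
  -- every conjugate of a rational transvection is in the subfield group
  have hconj : ∀ i j : ι, i ≠ j → g * el i j 1 * g⁻¹ ∈ subfieldSubgroup F₀ (1 : GL ι F) := by
    intro i j hij
    set v := (g : Matrix ι ι F) *ᵥ Pi.single i 1 with hv
    set φ := (Pi.single j (1 : F) : ι → F) ᵥ* ((g⁻¹ : GL ι F) : Matrix ι ι F) with hφ
    have htv : g * el i j 1 * g⁻¹ = tv v φ := by rw [el, conj_tv]
    have hφv : φ ⬝ᵥ v = 0 := by rw [hφ, hv, dot_conj]; simp [hij]
    have htM : tv v φ ∈ M := by
      rw [← htv]; exact M.mul_mem (M.mul_mem hg (hel i j hij 1 F₀.one_mem)) (M.inv_mem hg)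
    rw [htv]
    have i₀ : ι := i
    by_cases hdep : ∃ z : ι → F₀, z ≠ 0 ∧ ∑ k, (z k : F) * v k = 0
    · obtain ⟨z, hz, hzv⟩ := hdep
      obtain ⟨k₀, hk₀⟩ := Function.ne_iff.mp hz
      let A : Matrix ι ι F := Matrix.of fun p q => if p = i₀ then (z q : F) else 0
      have hA : RatMat F₀ A := fun p q => by
        simp only [A, Matrix.of_apply]
        split_ifs
        · exact (z q).2
        · exact F₀.zero_mem
      have hAv : A *ᵥ v = 0 := by
        funext p
        simp only [A, mulVec, dotProduct, Matrix.of_apply, Pi.zero_apply]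
        split_ifs with h
        · exact hzv
        · simp
      have hv0 : v ≠ 0 := fun h => by
        have := mulVec_injective_iff_isUnit.mpr g.isUnit (h.trans (mulVec_zero (g : Matrix ι ι F)).symm)
        simp at this
      refine hstab A _ hA htM ⟨v, hv0, hAv⟩ (fun h => hk₀ ?_) fun w hw => ?_
      · have := congrFun (congrFun h i₀) k₀
        simp [A] at this
        exact this
      · rw [tv_mulVec hφv, mulVec_add, mulVec_smul, hw, hAv, smul_zero, add_zero]
    push Not at hdep
    -- the coordinates of `v` are independent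
    have hvind : LinearIndependent F₀ v := by
      rw [Fintype.linearIndependent_iff]
      intro z hz k
      by_contra hk
      exact hdep z (fun h => hk (by rw [h]; rfl)) hz
    have hnr : Fintype.card ι ≤ r := by
      have : Fintype F₀ := Fintype.ofFinite _
      have hfin : Module.finrank F₀ F = r := by
        have h := Module.card_eq_pow_finrank (K := F₀) (V := F)
        rw [hcard, Nat.card_eq_fintype_card] at h
        exact (Nat.pow_right_injective (Fintype.one_lt_card) h).symm
      rw [← hfin]
      exact hvind.fintype_card_le_finrank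
    by_cases h2 : (2 : F) = 0
    · -- characteristic 2: a dihedral group
      have : CharP F 2 := by
        obtain ⟨p, hp⟩ := CharP.exists F
        have hdvd : p ∣ 2 := (CharP.cast_eq_zero_iff F p 2).mp (by exact_mod_cast h2)
        rcases (Nat.dvd_prime Nat.prime_two).mp hdvd with rfl | rfl
        · exact absurd rfl (CharP.char_is_prime F 1).ne_one
        · exact hp
      have ht2 : tv v φ * tv v φ = 1 := by
        rw [tv_mul_left hφv hφv, show v + v = 0 by rw [← two_smul F, h2, zero_smul], tv_zero_left]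
      obtain ⟨i₂, hi₂, hr₂, hd₂⟩ := exists_rational_involution (F := F) (ι := ι) F₀ 2 even_two (by omega)
      have hφ0 : φ ≠ 0 := fun h => by
        have := vecMul_injective_iff_isUnit.mpr (g⁻¹).isUnit
          (h.trans (zero_vecMul ((g⁻¹ : GL ι F) : Matrix ι ι F)).symm)
        simp at this
      have hdt : Fintype.card ι - 1 ≤ Module.finrank F (fixSp (tv v φ : Matrix ι ι F)) := by
        let L : (ι → F) →ₗ[F] (Fin 1 → F) :=
          { toFun := fun x _ => φ ⬝ᵥ x
            map_add' := fun x y => by funext _; exact dotProduct_add φ x y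
            map_smul' := fun k x => by funext _; exact dotProduct_smul k φ x }
        have hle : LinearMap.ker L ≤ fixSp (tv v φ : Matrix ι ι F) := fun x hx => by
          rw [mem_fixSp, tv_mulVec hφv, show φ ⬝ᵥ x = 0 from congrFun hx 0, zero_smul, add_zero]
        have h1 := Submodule.finrank_mono hle
        have h2 := L.finrank_range_add_finrank_ker
        have h3 := Submodule.finrank_le (LinearMap.range L)
        rw [hn'] at h2
        rw [Module.finrank_fin_fun] at h3
        omega
      obtain ⟨m, hm1, hmt, hmi⟩ := exists_central_of_not_conj ht2 hi₂ fun x hx => by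
        rw [← hx, finrank_fixSp_conj, hd₂] at hdt
        omega
      set k := (tv v φ * i₂) ^ m with hk
      have hkM : k ∈ M := M.pow_mem (M.mul_mem htM (hM hr₂.mem)) m
      have hfix : Fintype.card ι - 3 ≤ Module.finrank F (fixSp (k : Matrix ι ι F)) := by
        have h1 := Submodule.finrank_sup_add_finrank_inf_eq (fixSp (tv v φ : Matrix ι ι F))
          (fixSp (i₂ : Matrix ι ι F))
        have h2 := Submodule.finrank_le (fixSp (tv v φ : Matrix ι ι F) ⊔ fixSp (i₂ : Matrix ι ι F))
        have h3 : fixSp (tv v φ : Matrix ι ι F) ⊓ fixSp (i₂ : Matrix ι ι F) ≤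
            fixSp (k : Matrix ι ι F) := by
          rintro x ⟨hx1, hx2⟩
          rw [SetLike.mem_coe, mem_fixSp] at hx1 hx2
          rw [mem_fixSp]
          exact fixSp_pow (by rw [Units.val_mul, ← mulVec_mulVec, hx2, hx1]) m
        have h4 := Submodule.finrank_mono h3
        omega
      have hcen : ∀ x y : GL ι F, x ∈ M → RatMat F₀ (y : Matrix ι ι F) → y ≠ 1 →
          0 < Module.finrank F (fixSp (y : Matrix ι ι F)) → y * x = x * y →
          x ∈ subfieldSubgroup F₀ (1 : GL ι F) := by
        intro x y hx hy hy1 hpos hcomm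
        refine hstab _ x hy.sub_one hx ?_ (fun h => hy1 (Units.ext (sub_eq_zero.mp h))) fun w hw => ?_
        · obtain ⟨w, hw, hw0⟩ := Submodule.exists_mem_ne_zero_of_ne_bot
            (fun h : fixSp (y : Matrix ι ι F) = ⊥ => by rw [h, finrank_bot] at hpos; omega)
          exact ⟨w, hw0, by rw [sub_mulVec, one_mulVec, sub_eq_zero]; exact mem_fixSp.1 hw⟩
        · rw [sub_mulVec, one_mulVec, sub_eq_zero] at hw ⊢
          rw [mulVec_mulVec, ← Units.val_mul, hcomm, Units.val_mul, ← mulVec_mulVec, hw]
      have hi₂1 : i₂ ≠ 1 := fun h => by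
        rw [fixSp_eq_top_iff.2 h, finrank_top, hn'] at hd₂
        omega
      have hkK := hcen k i₂ hkM hr₂.1 hi₂1 (by omega) hmi
      have hr5 : 5 ≤ r := by
        rcases (by omega : r = 4 ∨ 5 ≤ r) with rfl | h
        · norm_num at hr
        · exact h
      have hkr := ratMat_of_fix hr hcard hkK (by
        have := Nat.mul_le_mul_left r hfix
        rcases (by omega : Fintype.card ι - 3 = 1 ∨ 2 ≤ Fintype.card ι - 3) with h5 | h5
        · rw [h5] at this
          omega
        · have h6 := Nat.mul_le_mul_left r h5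
          omega)
      exact hcen (tv v φ) k htM hkr hm1 (by omega) hmt.symm
    · -- odd characteristic: Dickson
      exfalso
      have hr2 : r ≠ 2 := by omega
      have hφ0 : φ ≠ 0 := fun h => by
        have := vecMul_injective_iff_isUnit.mpr (g⁻¹).isUnit
          (h.trans (zero_vecMul ((g⁻¹ : GL ι F) : Matrix ι ι F)).symm)
        simp at this
      obtain ⟨a, ha⟩ := Function.ne_iff.mp hφ0
      obtain ⟨b, hab, hb⟩ : ∃ b, a ≠ b ∧ φ a * v b ∉ F₀ := by
        by_contra hc
        push Not at hc
        obtain ⟨b, -, hba⟩ := Finset.exists_mem_notMem_of_card_lt_card (s := ({a} : Finset ι))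
          (t := Finset.univ) (by simp; omega)
        obtain ⟨b', -, hb'⟩ := Finset.exists_mem_notMem_of_card_lt_card (s := ({a, b} : Finset ι))
          (t := Finset.univ) (lt_of_le_of_lt Finset.card_le_two (by simp; omega))
        simp only [Finset.mem_insert, Finset.mem_singleton, not_or] at hba hb'
        have h1 := hc b (Ne.symm hba)
        have h1' := hc b' (Ne.symm hb'.1)
        let z : ι → F₀ := Pi.single b ⟨_, h1'⟩ - Pi.single b' ⟨_, h1⟩
        refine hdep z (fun h => ?_) ?_
        · have hv0 : v b ≠ 0 := hvind.ne_zero b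
          have := congrArg Subtype.val (congrFun h b')
          simp [z, hb'.2, hv0] at this
          exact ha this
        · simp only [z, Pi.sub_apply, Subfield.coe_sub, sub_mul, Finset.sum_sub_distrib]
          rw [Finset.sum_eq_single b (fun k _ hk => by simp [hk]) (by simp),
            Finset.sum_eq_single b' (fun k _ hk => by simp [hk]) (by simp)]
          simp
          ring
      have hel' := exists_el_irrational hr hr2 hcard h2 hφv hab hb htM (hel a b hab 1 F₀.one_mem)
      refine hSL (specialLinear_le_of_el hr hcard (by omega) hel hab hel' fun h => hb ?_)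
      rw [← inv_inv (φ a * v b)]
      exact F₀.inv_mem h
  -- hence `g` is rational up to a scalar
  set G := (g : Matrix ι ι F) with hG
  set K := ((g⁻¹ : GL ι F) : Matrix ι ι F) with hK
  have hE : ∀ i j k l, i ≠ j → G k i * K j l ∈ F₀ := by
    intro i j k l hij
    have hfix : Fintype.card ι < r * Module.finrank F
        (fixSp ((g * el i j 1 * g⁻¹ : GL ι F) : Matrix ι ι F)) := by
      rw [finrank_fixSp_conj]
      have h1 : Fintype.card ι - 1 ≤ Module.finrank F (fixSp (el i j (1 : F) : Matrix ι ι F)) := by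
        have hle : coordSub (Finset.univ.erase j) ≤ fixSp (el i j (1 : F) : Matrix ι ι F) := fun x hx => by
          rw [mem_fixSp, el, tv_mulVec (el_dot hij 1), single_dotProduct, hx j (by simp), mul_zero,
            zero_smul, add_zero]
        have := Submodule.finrank_mono hle
        rwa [finrank_coordSub, Finset.card_erase_of_mem (Finset.mem_univ j), Finset.card_univ] at this
      have := Nat.mul_le_mul (hr.two_le) h1
      omega
    have hrat := ratMat_of_fix hr hcard (hconj i j hij) hfix k l
    rw [Units.val_mul, Units.val_mul, el_coe hij, mul_add, mul_one, add_mul, Units.mul_inv,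
      Matrix.add_apply] at hrat
    have hent : (G * single i j (1 : F) * K) k l = G k i * K j l := by
      rw [mul_assoc, mul_apply, Finset.sum_eq_single i]
      · simp
      · intro m _ hm
        simp [hm]
      · simp
    rw [hG, hK] at hent ⊢
    rw [← hent]
    have := F₀.sub_mem hrat (ratMat_one F₀ k l)
    rwa [add_sub_cancel_left] at this
  have hcol : ∀ i, ∃ k, G k i ≠ 0 := by
    intro i
    by_contra hc
    push Not at hc
    have := congrFun (congrFun (Units.inv_mul g) i) i
    rw [mul_apply, one_apply_eq, Finset.sum_eq_zero (fun k _ => by rw [← hG, hc k, mul_zero])] at this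
    exact zero_ne_one this
  choose κ hκ using hcol
  have hrow : ∀ j, ∃ l, K j l ≠ 0 := by
    intro j
    by_contra hc
    push Not at hc
    have := congrFun (congrFun (Units.inv_mul g) j) j
    rw [mul_apply, one_apply_eq, Finset.sum_eq_zero (fun k _ => by rw [← hK, hc k, zero_mul])] at this
    exact zero_ne_one this
  have hnt : ∀ i i' : ι, ∃ j, j ≠ i ∧ j ≠ i' := by
    intro i i'
    obtain ⟨j, -, hj⟩ := Finset.exists_mem_notMem_of_card_lt_card (s := ({i, i'} : Finset ι))
      (t := Finset.univ) (lt_of_le_of_lt Finset.card_le_two (by simp; omega))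
    simp only [Finset.mem_insert, Finset.mem_singleton, not_or] at hj
    exact ⟨j, hj⟩
  obtain ⟨i₁⟩ : Nonempty ι := Fintype.card_pos_iff.mp (by omega)
  have hclass : ∀ i, G (κ i₁) i₁ / G (κ i) i ∈ F₀ := by
    intro i
    obtain ⟨j, hj1, hj2⟩ := hnt i₁ i
    obtain ⟨l, hl⟩ := hrow j
    have := F₀.div_mem (hE i₁ j (κ i₁) l (Ne.symm hj1)) (hE i j (κ i) l (Ne.symm hj2))
    rwa [mul_div_mul_right _ _ hl] at this
  have hKrat : RatMat F₀ (G (κ i₁) i₁ • K) := by
    intro j l
    obtain ⟨i, hi, -⟩ := hnt j j
    have := F₀.mul_mem (hclass i) (hE i j (κ i) l hi)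
    rw [← mul_assoc, div_mul_cancel₀ _ (hκ i)] at this
    rwa [Matrix.smul_apply, smul_eq_mul]
  have := mem_subfieldSubgroup_one_iff.2 ⟨_, hκ i₁, hKrat⟩
  exact inv_mem_iff.mp this

/-- The subfield subgroup is maximal in `SL` in dimension at least four. -/
theorem isMaximalIn_subfield {F₀ : Subfield F} {r : ℕ} (hr : r.Prime)
    (hcard : Fintype.card F = Nat.card F₀ ^ r) (hn : 4 ≤ Fintype.card ι) (P : GL ι F) :
    IsMaximalIn (specialLinear ι F) (subfieldSubgroup F₀ P ⊓ specialLinear ι F) := by
  haveI : (specialLinear ι F).Normal := MonoidHom.normal_ker _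
  set c := (MulAut.conj P).toMonoidHom with hc
  have hK : ∀ x, x ∈ subfieldSubgroup F₀ P ↔ P⁻¹ * x * P ∈ subfieldSubgroup F₀ (1 : GL ι F) := by
    intro x
    simp only [subfieldSubgroup, map_one, Subgroup.mem_map]
    constructor
    · rintro ⟨y, hy, rfl⟩
      exact ⟨y, hy, by simp [mul_assoc]⟩
    · rintro ⟨y, hy, e⟩
      exact ⟨y, hy, by
        have e' : y = P⁻¹ * x * P := by simpa using e
        subst e'
        simp [mul_assoc]⟩
  have hsl : ∀ x, x ∈ specialLinear ι F ↔ P⁻¹ * x * P ∈ specialLinear ι F := by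
    intro x
    constructor
    · intro h
      have := Subgroup.Normal.conj_mem inferInstance x h P⁻¹
      rwa [inv_inv] at this
    · intro h
      have := Subgroup.Normal.conj_mem inferInstance _ h P
      rwa [show P * (P⁻¹ * x * P) * P⁻¹ = x by group] at this
  refine isMaximalIn_of inf_le_right ?_ fun M hHM hMK g hg hg' => ?_
  · obtain ⟨z, hz⟩ : ∃ z : F, z ∉ F₀ := by
      by_contra h
      push Not at h
      have : Fintype F₀ := Fintype.ofFinite _
      have h1 : Nat.card F₀ = Fintype.card F := by
        rw [Nat.card_eq_fintype_card]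
        exact Fintype.card_congr ⟨Subtype.val, fun x => ⟨x, h x⟩, fun _ => rfl, fun _ => rfl⟩
      rw [h1] at hcard
      exact absurd (Nat.pow_eq_self_iff Fintype.one_lt_card |>.1 hcard.symm) hr.ne_one
    let e := (Fintype.equivFin ι).symm
    set a := e ⟨0, by omega⟩ with ha
    set b := e ⟨1, by omega⟩ with hb
    set s := e ⟨2, by omega⟩ with hs
    have hab : a ≠ b := fun h => by simpa using congrArg Fin.val (e.injective h)
    have has : s ≠ a := fun h => by simpa using congrArg Fin.val (e.injective h)
    refine ⟨P * el a b z * P⁻¹, (hsl _).2 ?_, fun hmem => ?_⟩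
    · rw [show P⁻¹ * (P * el a b z * P⁻¹) * P = el a b z by group]
      exact el_mem_specialLinear _ _ _
    · have h1 := (hK _).1 hmem.1
      rw [show P⁻¹ * (P * el a b z * P⁻¹) * P = el a b z by group] at h1
      obtain ⟨d, hd, hd'⟩ := mem_subfieldSubgroup_one_iff.1 h1
      have h2 := hd' s s
      have h3 := hd' a b
      rw [Matrix.smul_apply, el_coe hab, Matrix.add_apply, one_apply, single_apply] at h2 h3
      rw [if_pos rfl, if_neg (fun e => has e.1.symm), add_zero, smul_eq_mul, mul_one] at h2
      rw [if_neg hab, if_pos ⟨rfl, rfl⟩, zero_add, smul_eq_mul] at h3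
      apply hz
      have := F₀.mul_mem (F₀.inv_mem h2) h3
      rwa [inv_mul_cancel_left₀ hd] at this
  · let M' : Subgroup (GL ι F) := M.comap c
    have hmem : ∀ x, x ∈ M' ↔ P * x * P⁻¹ ∈ M := fun x => Iff.rfl
    have h1 : subfieldSubgroup F₀ (1 : GL ι F) ⊓ specialLinear ι F ≤ M' := by
      rintro x ⟨hx1, hx2⟩
      refine (hmem x).2 (hHM ⟨(hK _).2 ?_, (hsl _).2 ?_⟩)
      · rwa [show P⁻¹ * (P * x * P⁻¹) * P = x by group]
      · rwa [show P⁻¹ * (P * x * P⁻¹) * P = x by group]
    have h2 : M' ≤ specialLinear ι F := fun x hx => by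
      have := (hsl _).1 (hMK ((hmem x).1 hx))
      rwa [show P⁻¹ * (P * x * P⁻¹) * P = x by group] at this
    rcases le_subfield_or_specialLinear_le hr hcard hn h1 h2 with h | h
    · refine absurd ?_ hg'
      refine ⟨(hK g).2 (h ((hmem _).2 ?_)), hMK hg⟩
      rwa [show P * (P⁻¹ * g * P) * P⁻¹ = g by group]
    · intro x hx
      have := (hmem _).1 (h ((hsl x).1 hx))
      rwa [show P * (P⁻¹ * x * P) * P⁻¹ = x by group] at this

end CfsgLib.SubfieldMax
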